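import Mathlib
import Cfsg.Agent.Lib.Linear.Unipotent

/-!
# `SL₂(2ⁿ)`, `n ≥ 3`, is not a proper normal subgroup of a group with 2-groups as involution centralizers

Each coset has an element normalizing the unipotent subgroup and the diagonal torus and fixing a
transvection; it is a 2-element, and an involution of this sort would invert the field additively.
-/

set_option autoImplicit false
set_option linter.unusedSectionVars false

namespace Cfsg.Agent.Lib.GraphIsolated64.L2Even

open Matrix Cfsg.Agent.Lib.Linear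
open scoped Pointwise

variable {F : Type*} [Field F] [Fintype F] [CharP F 2]

local notation "SL2" => Matrix.SpecialLinearGroup (Fin 2) F
local notation "M2" => Matrix (Fin 2) (Fin 2) F

/-- the diagonal torus -/
def dg : Fˣ →* Matrix.SpecialLinearGroup (Fin 2) F where
  toFun a := ⟨!![(a : F), 0; 0, (↑a⁻¹ : F)], by simp [Matrix.det_fin_two]⟩
  map_one' := Subtype.ext (by ext i j; fin_cases i <;> fin_cases j <;> simp)
  map_mul' a b := Subtype.ext (by
    change (_ : M2) = !![(a : F), 0; 0, (↑a⁻¹ : F)] * !![(b : F), 0; 0, (↑b⁻¹ : F)]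
    ext i j; fin_cases i <;> fin_cases j <;> simp [Matrix.mul_apply, Fin.sum_univ_two, mul_comm])

theorem coe_dg (a : Fˣ) : ((dg a : SL2) : M2) = !![(a : F), 0; 0, (↑a⁻¹ : F)] := rfl

theorem dg_injective : Function.Injective (dg (F := F)) := fun a b h => Units.ext (by
  simpa [coe_dg] using congrArg (fun g : SL2 => (g : M2) 0 0) h)

/-- `u b` is the transvection with entry `b` -/
def u (b : F) : SL2 := uSL (Multiplicative.ofAdd b)

theorem coe_u (b : F) : ((u b : SL2) : M2) = !![1, b; 0, 1] := coe_uSL _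

theorem u_add (a b : F) : u (a + b) = u a * u b := map_mul uSL _ _

theorem u_injective : Function.Injective (u (F := F)) := fun a b h =>
  Multiplicative.ofAdd.injective (uSL_injective h)

theorem u_zero : u (0 : F) = 1 := map_one uSL

theorem orderOf_u {b : F} (hb : b ≠ 0) : orderOf (u b : SL2) = 2 :=
  orderOf_eq_prime (by rw [pow_two, ← u_add, CharTwo.add_self_eq_zero, u_zero])
    (fun h => hb (u_injective (h.trans u_zero.symm)))

theorem dg_conj_u (a : Fˣ) (b : F) : (dg a : SL2) * u b = u ((a : F) * a * b) * dg a := by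
  apply Subtype.ext
  ext i j
  fin_cases i <;> fin_cases j <;>
    simp [coe_dg, coe_u, Matrix.mul_apply, Fin.sum_univ_two]
  field_simp

theorem exists_sq_eq (c : F) : ∃ a : F, a * a = c := by
  obtain ⟨a, ha⟩ := FiniteField.isSquare_of_char_two (ringChar.eq F 2) c
  exact ⟨a, ha.symm⟩

/-- An upper triangular element of order prime to `2`, not `1`, is conjugate into the torus by a
transvection. -/
theorem upper_conj {k : SL2} (hk : (k : M2) 1 0 = 0) (ho : ¬ orderOf k ∣ 2) :
    ∃ (b : F) (a : Fˣ), u b * k = dg a * u b := by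
  have hdet : (k : M2) 0 0 * (k : M2) 1 1 = 1 := by
    have := k.det_coe
    rwa [Matrix.det_fin_two, hk, mul_zero, sub_zero] at this
  have hne : (k : M2) 0 0 ≠ (k : M2) 1 1 := by
    intro he
    apply ho
    apply orderOf_dvd_of_pow_eq_one
    apply Subtype.ext
    rw [pow_two, Matrix.SpecialLinearGroup.coe_mul]
    have h00 : (k : M2) 0 0 = 1 := by
      have h1 : ((k : M2) 0 0 - 1) ^ 2 = 0 := by
        have h2 : (2 : F) = 0 := by exact_mod_cast CharP.cast_eq_zero F 2
        linear_combination hdet + (k : M2) 0 0 * he - ((k : M2) 0 0 - 1) * h2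
      exact sub_eq_zero.1 (sq_eq_zero_iff.1 h1)
    ext i j
    fin_cases i <;> fin_cases j <;>
      simp [Matrix.mul_apply, Fin.sum_univ_two, hk, h00, ← he, CharTwo.add_self_eq_zero]
  have ha0 : (k : M2) 0 0 ≠ 0 := left_ne_zero_of_mul_eq_one hdet
  have hsub : (k : M2) 0 0 - (k : M2) 1 1 ≠ 0 := sub_ne_zero.2 hne
  refine ⟨(k : M2) 0 1 / ((k : M2) 0 0 - (k : M2) 1 1), Units.mk0 _ ha0, ?_⟩
  have hinv : (k : M2) 1 1 = ((k : M2) 0 0)⁻¹ := eq_inv_of_mul_eq_one_right hdet
  apply Subtype.ext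
  ext i j
  fin_cases i <;> fin_cases j <;>
    simp [coe_dg, coe_u, Matrix.mul_apply, Fin.sum_univ_two, hk, hinv]
  rw [← hinv]
  field_simp
  ring

variable {Q : Type*} [Group Q] [Finite Q]

theorem card_ge_three {n : ℕ} (hn : 3 ≤ n) (hF : Fintype.card F = 2 ^ n) : 8 ≤ Fintype.card F := by
  rw [hF]
  calc 8 = 2 ^ 3 := rfl
    _ ≤ 2 ^ n := Nat.pow_le_pow_right (by norm_num) hn

/-- An element `y` normalizing the image of the unipotent group and of the torus, fixing the image of
`u 1`. -/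
structure Norm (ι : SL2 →* Q) (y : Q) : Prop where
  unip : ∀ b : F, ∃ c : F, y * ι (u b) * y⁻¹ = ι (u c)
  torus : ∀ a : Fˣ, ∃ c : Fˣ, y * ι (dg a) * y⁻¹ = ι (dg c)
  fix : y * ι (u 1) * y⁻¹ = ι (u 1)

theorem exists_norm (ι : SL2 →* Q) (hι : Function.Injective ι) (hn : ι.range.Normal)
    (h8 : 8 ≤ Fintype.card F) (x : Q) : ∃ s : SL2, Norm ι (ι s * x) := by
  haveI : Fact (Nat.Prime 2) := ⟨Nat.prime_two⟩
  -- the automorphism induced by `x`
  have hex : ∀ g : SL2, ∃ g' : SL2, ι g' = x * ι g * x⁻¹ := fun g => hn.conj_mem _ ⟨g, rfl⟩ x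
  choose α₀ hα₀ using hex
  let α : SL2 →* SL2 := MonoidHom.mk' α₀ fun g h => hι (by
    rw [map_mul, hα₀, hα₀, hα₀, map_mul]; group)
  have hαi : Function.Injective α := fun g h e => by
    have h1 : x * ι g * x⁻¹ = x * ι h * x⁻¹ := by rw [← hα₀, ← hα₀]; exact congrArg ι e
    exact hι (mul_left_cancel (mul_right_cancel h1))
  -- Sylow
  set P := (uSL (F := F)).range
  have hPc : Nat.card (P.map α) = 2 ^ (Nat.card SL2).factorization 2 := by
    rw [Subgroup.card_map_of_injective hαi, card_range_uSL, factorization_card_SL_two,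
      Nat.card_eq_fintype_card]
  obtain ⟨g, hg⟩ := exists_sylow_eq_conj_SL (F := F) 2 (Sylow.ofCard (P.map α) hPc)
  rw [Sylow.coe_ofCard] at hg
  have hP : ∀ b : F, ∃ c : F, g⁻¹ * α (u b) * g = u c := by
    intro b
    have : α (u b) ∈ MulAut.conj g • P := hg ▸ ⟨u b, ⟨_, rfl⟩, rfl⟩
    obtain ⟨z, ⟨t, rfl⟩, hz⟩ := Subgroup.mem_map.1 this
    refine ⟨t.toAdd, ?_⟩
    rw [← hz]
    simp [u, mul_assoc]
  -- the torus
  obtain ⟨ε, hε⟩ := IsCyclic.exists_ofOrder_eq_natCard (α := Fˣ)
  set k := g⁻¹ * α (dg ε) * g with hkdef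
  have hε2 : ¬ orderOf (dg ε : SL2) ∣ 2 := by
    rw [orderOf_injective _ dg_injective, hε, Nat.card_units, Nat.card_eq_fintype_card]
    intro hd
    have := Nat.le_of_dvd (by norm_num) hd
    omega
  have hk2 : ¬ orderOf k ∣ 2 := by
    have : k = MulAut.conj g⁻¹ (α (dg ε)) := by simp [hkdef]
    rw [this, MulEquiv.orderOf_eq, orderOf_injective _ hαi]
    exact hε2
  have hku : (k : M2) 1 0 = 0 := by
    obtain ⟨c₁, hc₁⟩ := hP 1
    obtain ⟨c₂, hc₂⟩ := hP ((ε : F) * ε * 1)
    have he : u c₂ * k = k * u c₁ := by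
      rw [← hc₁, ← hc₂, hkdef]
      have := congrArg α (dg_conj_u ε (1 : F))
      rw [map_mul, map_mul] at this
      calc g⁻¹ * α (u (↑ε * ↑ε * 1)) * g * (g⁻¹ * α (dg ε) * g)
          = g⁻¹ * (α (u (↑ε * ↑ε * 1)) * α (dg ε)) * g := by group
        _ = _ := by rw [← this]; group
    refine upper_of_uSL_mul_eq he (Or.inr fun h => ?_)
    have h0 : c₁ = 0 := Multiplicative.ofAdd.injective h
    rw [h0, u_zero] at hc₁
    have : α (u (1 : F)) = 1 := by
      calc α (u (1 : F)) = g * (g⁻¹ * α (u (1 : F)) * g) * g⁻¹ := by group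
        _ = 1 := by rw [hc₁]; group
    exact one_ne_zero (u_injective ((hαi (this.trans (map_one α).symm)).trans u_zero.symm))
  obtain ⟨b₀, a₀, ha₀⟩ := upper_conj hku hk2
  have hT : ∀ a : Fˣ, ∃ c : Fˣ, u b₀ * (g⁻¹ * α (dg a) * g) * (u b₀)⁻¹ = dg c := by
    intro a
    have hmem : a ∈ Subgroup.zpowers ε := by
      rw [Subgroup.eq_top_of_card_eq (Subgroup.zpowers ε) (by rw [Nat.card_zpowers, hε])]
      trivial
    obtain ⟨j, rfl⟩ := Subgroup.mem_zpowers_iff.1 hmem
    refine ⟨a₀ ^ j, ?_⟩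
    have h1 : u b₀ * (g⁻¹ * α (dg ε) * g) * (u b₀)⁻¹ = dg a₀ := by
      rw [← hkdef, ha₀, mul_inv_cancel_right]
    rw [map_zpow, map_zpow, map_zpow, ← h1]
    rw [show g⁻¹ * α (dg ε) ^ j * g = (g⁻¹ * α (dg ε) * g) ^ j by
      simpa using (map_zpow (MulAut.conj g⁻¹) (α (dg ε)) j)]
    exact (map_zpow (MulAut.conj (u b₀)) _ j)
  obtain ⟨c₁, hc₁⟩ := hP 1
  have hc0 : c₁ ≠ 0 := fun h0 => by
    rw [h0, u_zero] at hc₁
    have : α (u (1 : F)) = 1 := by
      calc α (u (1 : F)) = g * (g⁻¹ * α (u (1 : F)) * g) * g⁻¹ := by group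
        _ = 1 := by rw [hc₁]; group
    exact one_ne_zero (u_injective ((hαi (this.trans (map_one α).symm)).trans u_zero.symm))
  obtain ⟨r, hr⟩ := exists_sq_eq c₁⁻¹
  have hr0 : r ≠ 0 := fun h => inv_ne_zero hc0 (by rw [← hr, h, mul_zero])
  set d : Fˣ := Units.mk0 r hr0
  refine ⟨dg d * u b₀ * g⁻¹, ?_⟩
  have key : ∀ z : SL2, ι (dg d * u b₀ * g⁻¹) * x * ι z * (ι (dg d * u b₀ * g⁻¹) * x)⁻¹ =
      ι (dg d * (u b₀ * (g⁻¹ * α z * g) * (u b₀)⁻¹) * (dg d)⁻¹) := by
    intro z
    simp only [map_mul, map_inv, show ι (α z) = x * ι z * x⁻¹ from hα₀ z]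
    group
  have hconj : ∀ c : F, dg d * (u b₀ * u c * (u b₀)⁻¹) * (dg d)⁻¹ = u (r * r * c) := by
    intro c
    rw [← u_add, add_comm, u_add, mul_inv_cancel_right, dg_conj_u, mul_inv_cancel_right]
    rfl
  refine ⟨fun b => ?_, fun a => ?_, ?_⟩
  · obtain ⟨c, hc⟩ := hP b
    exact ⟨r * r * c, by rw [key, hc, hconj]⟩
  · obtain ⟨c, hc⟩ := hT a
    exact ⟨c, by rw [key, hc, ← map_mul dg, mul_comm d c, map_mul dg, mul_inv_cancel_right]⟩
  · rw [key, hc₁, hconj, hr, inv_mul_cancel₀ hc0]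

/-- An element of the image normalizing both and fixing `u 1` is trivial. -/
theorem eq_one_of_norm (ι : SL2 →* Q) (hι : Function.Injective ι) (h8 : 8 ≤ Fintype.card F) {k : SL2}
    (h : Norm ι (ι k)) : k = 1 := by
  have hfix : u 1 * k = k * u (1 : F) := by
    apply hι
    rw [map_mul, map_mul]
    exact ((mul_inv_eq_iff_eq_mul.1 h.fix)).symm
  have hk10 : (k : M2) 1 0 = 0 := upper_of_uSL_mul_eq hfix
    (Or.inl fun e => one_ne_zero (Multiplicative.ofAdd.injective e))
  have h11 : (k : M2) 1 1 = (k : M2) 0 0 := by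
    have := congrArg (fun g : SL2 => (g : M2) 0 1) hfix
    simp [coe_u, Matrix.mul_apply, Fin.sum_univ_two] at this
    linear_combination this
  have hdet : (k : M2) 0 0 * (k : M2) 1 1 = 1 := by
    have := k.det_coe
    rwa [Matrix.det_fin_two, hk10, mul_zero, sub_zero] at this
  have h00 : (k : M2) 0 0 = 1 := by
    rw [h11] at hdet
    have h2 : (2 : F) = 0 := by exact_mod_cast CharP.cast_eq_zero F 2
    have h1 : ((k : M2) 0 0 - 1) ^ 2 = 0 := by linear_combination hdet - ((k : M2) 0 0 - 1) * h2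
    exact sub_eq_zero.1 (sq_eq_zero_iff.1 h1)
  -- normalizing the torus kills the off-diagonal entry
  obtain ⟨ε, hε⟩ := IsCyclic.exists_ofOrder_eq_natCard (α := Fˣ)
  rw [Nat.card_units, Nat.card_eq_fintype_card] at hε
  obtain ⟨c, hc⟩ := h.torus ε
  have he : k * dg ε = dg c * k := by
    apply hι
    rw [map_mul, map_mul, ← hc]
    group
  have e00 := congrArg (fun g : SL2 => (g : M2) 0 0) he
  have e01 := congrArg (fun g : SL2 => (g : M2) 0 1) he
  simp [coe_dg, Matrix.mul_apply, Fin.sum_univ_two, hk10, h00] at e00 e01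
  have h01 : (k : M2) 0 1 = 0 := by
    by_contra hb
    rw [← e00, mul_comm (ε : F)] at e01
    have h1 : ((ε⁻¹ : Fˣ) : F) = (ε : F) := by
      rw [Units.val_inv_eq_inv_val]; exact mul_left_cancel₀ hb e01
    have h2 : ε ^ 2 = 1 := by
      rw [pow_two]
      nth_rw 1 [← Units.ext h1]
      exact inv_mul_cancel ε
    have := Nat.le_of_dvd (by norm_num) (orderOf_dvd_of_pow_eq_one h2)
    omega
  apply Subtype.ext
  ext i j
  fin_cases i <;> fin_cases j <;> simp [hk10, h00, h01, h11]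

theorem eq_top (ι : SL2 →* Q) (hι : Function.Injective ι) (hn : ι.range.Normal)
    (h8 : 8 ≤ Fintype.card F)
    (hQ : ∀ t : Q, orderOf t = 2 → IsPGroup 2 (Subgroup.centralizer ({t} : Set Q))) :
    ι.range = ⊤ := by
  haveI : Fact (Nat.Prime 2) := ⟨Nat.prime_two⟩
  haveI := hn
  by_contra hne
  -- every coset contains a 2-element
  have h2 : IsPGroup 2 (Q ⧸ ι.range) := by
    intro q
    obtain ⟨x, rfl⟩ := QuotientGroup.mk'_surjective _ q
    obtain ⟨s, hs⟩ := exists_norm ι hι hn h8 x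
    have ho : orderOf (ι (u (1 : F))) = 2 := by
      rw [orderOf_injective ι hι]; exact orderOf_u one_ne_zero
    have hy : ι s * x ∈ Subgroup.centralizer ({ι (u (1 : F))} : Set Q) := by
      rw [Subgroup.mem_centralizer_iff]
      rintro _ rfl
      exact (mul_inv_eq_iff_eq_mul.1 hs.fix).symm
    obtain ⟨j, hj⟩ := hQ _ ho ⟨_, hy⟩
    refine ⟨j, ?_⟩
    have h1 : (ι s * x) ^ 2 ^ j = 1 := congrArg Subtype.val hj
    have h2 := congrArg (QuotientGroup.mk' ι.range) h1
    rwa [map_pow, map_mul, show QuotientGroup.mk' ι.range (ι s) = 1 from (QuotientGroup.eq_one_iff (ι s)).2 (MonoidHom.mem_range.2 ⟨s, rfl⟩), one_mul, map_one] at h2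
  have hnt : Nontrivial (Q ⧸ ι.range) := by
    obtain ⟨x, hx⟩ := (not_forall.1 fun h => hne (eq_top_iff.2 fun x _ => h x))
    exact ⟨⟨QuotientGroup.mk' _ x, 1, fun e => hx ((QuotientGroup.eq_one_iff x).1 e)⟩⟩
  obtain ⟨q, hq⟩ := exists_prime_orderOf_dvd_card' (G := Q ⧸ ι.range) 2 (by
    obtain ⟨j, hj⟩ := IsPGroup.iff_card.1 (show IsPGroup 2 (Q ⧸ ι.range) from h2)
    rw [hj]
    refine dvd_pow_self 2 fun hj0 => ?_
    rw [hj0, pow_zero] at hj
    exact absurd hj (Finite.one_lt_card.ne'))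
  obtain ⟨x, rfl⟩ := QuotientGroup.mk'_surjective _ q
  obtain ⟨s, hs⟩ := exists_norm ι hι hn h8 x
  set y := ι s * x with hy
  have hyq : QuotientGroup.mk' ι.range y = QuotientGroup.mk' ι.range x := by
    rw [hy, map_mul, show QuotientGroup.mk' ι.range (ι s) = 1 from (QuotientGroup.eq_one_iff (ι s)).2 (MonoidHom.mem_range.2 ⟨s, rfl⟩), one_mul]
  obtain ⟨k, hk⟩ : y ^ 2 ∈ ι.range := by
    refine (QuotientGroup.eq_one_iff _).1 ?_
    change QuotientGroup.mk' ι.range (y ^ 2) = 1
    rw [map_pow, hyq]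
    exact orderOf_dvd_iff_pow_eq_one.1 (dvd_of_eq hq)
  have hy2 : y * y = 1 := by
    rw [← pow_two, ← hk]
    suffices hk1 : k = 1 by rw [hk1, map_one]
    refine eq_one_of_norm ι hι h8 ⟨fun b => ?_, fun a => ?_, ?_⟩
    · obtain ⟨c, hc⟩ := hs.unip b
      obtain ⟨c', hc'⟩ := hs.unip c
      exact ⟨c', by rw [hk, pow_two, ← hc', ← hc]; group⟩
    · obtain ⟨c, hc⟩ := hs.torus a
      obtain ⟨c', hc'⟩ := hs.torus c
      exact ⟨c', by rw [hk, pow_two, ← hc', ← hc]; group⟩
    · rw [hk]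
      calc y ^ 2 * ι (u 1) * (y ^ 2)⁻¹ = y * (y * ι (u 1) * y⁻¹) * y⁻¹ := by rw [pow_two]; group
        _ = _ := by rw [hs.fix, hs.fix]
  have hy1 : y ≠ 1 := fun e => by
    rw [e, map_one] at hyq
    rw [← hyq, orderOf_one] at hq
    omega
  have hyo : orderOf y = 2 := orderOf_eq_prime (by rw [pow_two, hy2]) hy1
  have hyi : y⁻¹ = y := inv_eq_of_mul_eq_one_left hy2
  -- `y` inverts the torus
  choose σ hσ using hs.torus
  have hσmul : ∀ a b : Fˣ, σ (a * b) = σ a * σ b := fun a b => dg_injective (hι (by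
    rw [map_mul (dg (F := F)), map_mul ι, ← hσ, ← hσ, ← hσ, map_mul, map_mul]; group))
  have hσσ : ∀ a, σ (σ a) = a := fun a => dg_injective (hι (by
    rw [← hσ, ← hσ, hyi]
    calc y * (y * ι (dg a) * y) * y = (y * y) * ι (dg a) * (y * y) := by group
      _ = _ := by rw [hy2, one_mul, mul_one]))
  have hinv : ∀ a, σ a = a⁻¹ := by
    intro a
    set e := a * σ a with hedef
    have he : σ e = e := by rw [hedef, hσmul, hσσ, mul_comm]
    suffices e = 1 from eq_inv_of_mul_eq_one_right this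
    have hmem : ι (dg e) ∈ Subgroup.centralizer ({y} : Set Q) := by
      rw [Subgroup.mem_centralizer_iff]
      rintro _ rfl
      have := hσ e
      rw [he] at this
      exact mul_inv_eq_iff_eq_mul.1 this
    obtain ⟨j, hj⟩ := hQ y hyo ⟨_, hmem⟩
    have h1 : ι (dg e) ^ 2 ^ j = 1 := congrArg Subtype.val hj
    have h3 : orderOf e ∣ 2 ^ j := by
      rw [← orderOf_injective _ dg_injective, ← orderOf_injective ι hι]
      exact orderOf_dvd_of_pow_eq_one h1
    have h4 : orderOf e ∣ Fintype.card F - 1 := by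
      have := orderOf_dvd_natCard e
      rwa [Nat.card_units, Nat.card_eq_fintype_card] at this
    have hodd : Nat.Coprime (Fintype.card F - 1) (2 ^ j) := by
      apply Nat.Coprime.pow_right
      rw [Nat.coprime_two_right]
      obtain ⟨n, hn0, hn⟩ := exists_card_eq_pow (F := F) 2
      rw [hn]
      exact Nat.Even.sub_odd Nat.one_le_two_pow (Nat.even_pow.2 ⟨even_two, hn0.ne'⟩) odd_one
    exact orderOf_eq_one_iff.1 (Nat.eq_one_of_dvd_coprimes hodd h4 h3)
  -- so `y` inverts the additive group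
  choose β hβ using hs.unip
  have hβ1 : β 1 = 1 := u_injective (hι ((hβ 1).symm.trans hs.fix))
  have hβadd : ∀ a b, β (a + b) = β a + β b := fun a b => u_injective (hι (by
    rw [u_add (β a), map_mul ι, ← hβ, ← hβ, ← hβ, u_add, map_mul]; group))
  have hβinv : ∀ c : F, c ≠ 0 → β c = c⁻¹ := by
    intro c hc
    obtain ⟨r, hr⟩ := exists_sq_eq c
    have hr0 : r ≠ 0 := fun h => hc (by rw [← hr, h, mul_zero])
    set a : Fˣ := Units.mk0 r hr0
    have h1 := congrArg (fun z => y * ι z * y⁻¹) (dg_conj_u a (1 : F))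
    simp only [map_mul] at h1
    have h2 : ι (dg (σ a)) * ι (u (β 1)) = ι (u (β ((a : F) * a * 1))) * ι (dg (σ a)) := by
      rw [← hσ, ← hβ, ← hβ]
      calc _ = y * (ι (dg a) * ι (u 1)) * y⁻¹ := by group
        _ = y * (ι (u (↑a * ↑a * 1)) * ι (dg a)) * y⁻¹ := h1
        _ = _ := by group
    rw [hβ1, ← map_mul, ← map_mul, dg_conj_u] at h2
    have h3 := u_injective (mul_right_cancel (hι h2))
    rw [mul_one, mul_one, hinv, Units.val_inv_eq_inv_val, ← mul_inv] at h3
    rw [← hr]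
    exact h3.symm
  -- which is impossible
  classical
  have hroot : ∀ c : F, c ≠ 0 → c ≠ 1 → c * c + c + 1 = 0 := by
    intro c hc0 hc1
    have h2 : (2 : F) = 0 := by exact_mod_cast CharP.cast_eq_zero F 2
    have hc' : 1 + c ≠ 0 := fun h => hc1 (by linear_combination h - h2)
    have h := hβadd 1 c
    rw [hβinv _ hc', hβ1, hβinv _ hc0] at h
    have hcross : c = (1 + c) * (c + 1) := by
      field_simp at h
      linear_combination h
    linear_combination -hcross - c * h2 + c * h2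
  have : Fintype.card F ≤ 4 := by
    have hsub : (Finset.univ : Finset F) ⊆ insert 0 (insert 1
        (Finset.univ.filter fun c : F => c * c + c + 1 = 0)) := by
      intro c _
      by_cases hc0 : c = 0
      · simp [hc0]
      by_cases hc1 : c = 1
      · simp [hc1]
      simp [hroot c hc0 hc1]
    have h2r : (Finset.univ.filter fun c : F => c * c + c + 1 = 0).card ≤ 2 := by
      rcases (Finset.univ.filter fun c : F => c * c + c + 1 = 0).eq_empty_or_nonempty with h | ⟨c, hc⟩
      · simp [h]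
      refine le_trans (Finset.card_le_card (t := {c, c + 1}) fun d hd => ?_) Finset.card_le_two
      simp only [Finset.mem_filter, Finset.mem_univ, true_and] at hc hd
      have h2 : (2 : F) = 0 := by exact_mod_cast CharP.cast_eq_zero F 2
      have : (d - c) * (d - (c + 1)) = 0 := by linear_combination hd - hc - (d * c + d - c * c - c) * h2
      rcases mul_eq_zero.1 this with h | h
      · simp [sub_eq_zero.1 h]
      · simp [sub_eq_zero.1 h]
    have h1 := Finset.card_le_card hsub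
    have h3 := Finset.card_insert_le (0 : F) (insert 1 (Finset.univ.filter fun c : F => c * c + c + 1 = 0))
    have h4 := Finset.card_insert_le (1 : F) (Finset.univ.filter fun c : F => c * c + c + 1 = 0)
    rw [Finset.card_univ] at h1
    omega
  omega

end Cfsg.Agent.Lib.GraphIsolated64.L2Even
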