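import Mathlib
import Cfsg.Agent.Lib.NumberTheory.Zsigmondy

/-!
# Orders of two modulo primes
-/

set_option autoImplicit false

namespace Cfsg.Agent.Lib.GraphIsolated64.Arith

open Cfsg.Agent.Lib.NumberTheory

theorem dvd_iff (r k : ℕ) : r ∣ 2 ^ k - 1 ↔ orderOf (2 : ZMod r) ∣ k := by
  have := dvd_pow_sub_one_iff_orderOf_dvd (p := r) (q := 2) k (by norm_num)
  simpa using this

theorem exists_primitive {k : ℕ} (hk : 2 ≤ k) (h6 : k ≠ 6) :
    ∃ r : ℕ, r.Prime ∧ r ≠ 2 ∧ r ∣ 2 ^ k - 1 ∧ orderOf (2 : ZMod r) = k := by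
  by_cases h2 : k = 2
  · subst h2
    refine ⟨3, Nat.prime_three, by norm_num, by norm_num, ?_⟩
    exact orderOf_eq_prime (by decide) (by decide)
  obtain ⟨r, hr, hro⟩ := exists_primitive_prime (q := 2) (n := k) le_rfl hk (fun h => h6 h.2)
    (fun h => h2 h.1)
  have hro' : orderOf (2 : ZMod r) = k := by simpa using hro
  have hd : r ∣ 2 ^ k - 1 := (dvd_iff r k).2 hro'.dvd
  refine ⟨r, hr, ?_, hd, hro'⟩
  rintro rfl
  have h1 := Nat.one_le_two_pow (n := k)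
  have h3 : 2 ∣ 2 ^ k := dvd_pow_self 2 (by omega)
  omega

theorem lt_of_orderOf {r k : ℕ} (hr : r.Prime) (h : orderOf (2 : ZMod r) = k) (hk : 0 < k) : k < r := by
  haveI := Fact.mk hr
  have h2 : (2 : ZMod r) ≠ 0 := by
    intro h0
    rw [h0, orderOf_zero] at h
    omega
  have := Nat.le_of_dvd (by have := hr.two_le; omega) (ZMod.orderOf_dvd_card_sub_one h2)
  have := hr.two_le
  omega

theorem sq_sub_one (k : ℕ) : (2 ^ k - 1) * (2 ^ k + 1) = 2 ^ (2 * k) - 1 := by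
  rw [mul_comm, ← Nat.sq_sub_sq, one_pow, ← pow_mul, mul_comm k]

theorem coprime_sub_add {k : ℕ} (hk : 1 ≤ k) : Nat.Coprime (2 ^ k - 1) (2 ^ k + 1) := by
  have h1 := Nat.one_le_two_pow (n := k)
  rw [show 2 ^ k + 1 = (2 ^ k - 1) + 2 by omega, Nat.coprime_self_add_right, Nat.coprime_two_right]
  exact Nat.Even.sub_odd h1 (Nat.even_pow.2 ⟨even_two, by omega⟩) odd_one

theorem odd_of_dvd {k r : ℕ} (hk : 1 ≤ k) (h : r ∣ 2 ^ k - 1 ∨ r ∣ 2 ^ k + 1) : ¬ 2 ∣ r := by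
  intro h2
  have h1 := Nat.one_le_two_pow (n := k)
  have h3 : 2 ∣ 2 ^ k := dvd_pow_self 2 (by omega)
  rcases h with h | h <;> · have := h2.trans h; omega

/-- `p = 2ᵏ + 1`: the order of two is `2 k`. -/
theorem orderOf_fermat {p k : ℕ} (hk : 1 ≤ k) (hp : p = 2 ^ k + 1) :
    orderOf (2 : ZMod p) = 2 * k := by
  set d := orderOf (2 : ZMod p)
  have hd : d ∣ 2 * k := (dvd_iff p (2 * k)).1 (hp ▸ sq_sub_one k ▸ dvd_mul_left _ _)
  have hd0 : d ≠ 0 := fun h => by rw [h, zero_dvd_iff] at hd; omega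
  obtain ⟨c, hc⟩ := hd
  rcases Nat.lt_or_ge c 2 with h2 | h2
  · interval_cases c
    · omega
    · omega
  · have hdk : d ≤ k := by nlinarith
    have h1 : p ∣ 2 ^ d - 1 := (dvd_iff p d).2 dvd_rfl
    have h3 : 2 ^ d ≤ 2 ^ k := Nat.pow_le_pow_right (by norm_num) hdk
    have h4 : 2 ≤ 2 ^ d := Nat.le_self_pow hd0 2
    have := Nat.le_of_dvd (by omega) h1
    omega

/-- `p = 2ᵏ - 1`: the order of two is `k`. -/
theorem orderOf_mersenne {p k : ℕ} (hk : 2 ≤ k) (hp : p + 1 = 2 ^ k) :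
    orderOf (2 : ZMod p) = k := by
  set d := orderOf (2 : ZMod p)
  have hd : d ∣ k := (dvd_iff p k).1 (by rw [← hp, Nat.add_sub_cancel])
  have hd0 : d ≠ 0 := fun h => by rw [h, zero_dvd_iff] at hd; omega
  refine le_antisymm (Nat.le_of_dvd (by omega) hd) (by_contra fun hlt => ?_)
  have h1 : p ∣ 2 ^ d - 1 := (dvd_iff p d).2 dvd_rfl
  have h3 : 2 * 2 ^ d ≤ 2 ^ k := by
    rw [mul_comm, ← pow_succ]
    exact Nat.pow_le_pow_right (by norm_num) (by omega)
  have h4 : 2 ≤ 2 ^ d := Nat.le_self_pow hd0 2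
  have := Nat.le_of_dvd (by omega) h1
  omega

theorem eq_three_pow {k : ℕ} (hk : 3 ≤ k) {a : ℕ} (h : 2 ^ k - 1 = 3 ^ a) : False := by
  have h1 : 3 ^ a % 8 = 1 ∨ 3 ^ a % 8 = 3 := by
    clear h
    induction a with
    | zero => simp
    | succ a ih =>
      rw [pow_succ, Nat.mul_mod]
      rcases ih with e | e <;> simp [e]
  have h8 : 8 ∣ 2 ^ k := show (2 : ℕ) ^ 3 ∣ 2 ^ k from pow_dvd_pow 2 hk
  have := Nat.one_le_two_pow (n := k)
  omega

/-- A number all of whose prime-power parts are one modulo three is one modulo three. -/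
theorem mod_three {N : ℕ} (hN : N ≠ 0)
    (h : ∀ s ∈ N.primeFactors, s ^ (N.factorization s) % 3 = 1) : N % 3 = 1 := by
  conv_lhs => rw [← Nat.prod_factorization_pow_eq_self hN]
  rw [Finsupp.prod, Nat.support_factorization]
  exact Finset.prod_induction (s := N.primeFactors) (fun s => s ^ N.factorization s) (fun x => x % 3 = 1)
    (fun a b ha hb => by rw [Nat.mul_mod, ha, hb]) rfl h

end Cfsg.Agent.Lib.GraphIsolated64.Arith
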