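import Mathlib
import Cfsg.Prelude.Def_Exceptional
import Cfsg.Agent.Lib.CITReduce.Basic
import Cfsg.Agent.Lib.Spectrum.EPPOSeven
import Cfsg.Agent.Lib.RecogThree.PSL2Orders
import Cfsg.Agent.Lib.PrimeGraph.Three
import Cfsg.Agent.Lib.Linear.FamilyHom
import Cfsg.Agent.Lib.Linear.Order
import Cfsg.Agent.Lib.PrimeGraph.SL2
import Cfsg.Agent.Lib.GraphIsolated64.Arith
import Cfsg.Agent.Lib.GraphIsolated64.L2Even

/-!
# Groups with the prime graph of `PSL₂(2ᵐ)`

Involution centralizers are 2-groups; modulo `O₂` the socle is one of the simple groups with this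
property, and primes of the index are excluded by fixed-point-free actions on Sylow subgroups.
-/

set_option autoImplicit false
set_option linter.style.haveILetI false

namespace Cfsg.Agent.Lib.GraphIsolated64

open Subgroup

universe u

/-- A group with the relevant features of the prime graph of `PSL₂(2ᵐ)`. -/
structure GraphData (Q : Type*) [Group Q] (m : ℕ) : Prop where
  cit : CIT.IsCIT Q
  dvd : ∀ r : ℕ, r.Prime → r ≠ 2 → r ∣ Nat.card Q → r ∣ 2 ^ (2 * m) - 1
  mem : ∀ r : ℕ, r.Prime → r ∣ 2 ^ (2 * m) - 1 → r ∣ Nat.card Q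
  nonadj : ∀ r s : ℕ, r.Prime → s.Prime → r ∣ 2 ^ m - 1 → s ∣ 2 ^ m + 1 → ¬ PrimeGraph.Three.HasOrder Q (r * s)

variable {Q : Type u} [Group Q] [Finite Q]

theorem not_hasOrder_two {r : ℕ} (h : CIT.IsCIT Q) (hr : r.Prime) (hr2 : r ≠ 2) :
    ¬ PrimeGraph.Three.HasOrder Q (2 * r) := fun ⟨_, hx⟩ =>
  hr2 (CITReduce.eq_two h hr (hx ▸ dvd_mul_left r 2) (hx ▸ dvd_mul_right 2 r))

/-- A prime of the index of a normal subgroup acts fixed-point-freely on a Sylow subgroup for a
non-adjacent prime. -/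
theorem dvd_pow_sub_one (S : Subgroup Q) [S.Normal] {r s : ℕ} [hr : Fact r.Prime] [hs : Fact s.Prime]
    (hrs : r ≠ s) (hri : r ∣ S.index) (hno : ¬ PrimeGraph.Three.HasOrder Q (r * s)) :
    r ∣ s ^ (Nat.card S).factorization s - 1 := by
  obtain ⟨P⟩ : Nonempty (Sylow s S) := inferInstance
  set T := (P : Subgroup S).map S.subtype
  have hT : Nat.card T = s ^ (Nat.card S).factorization s := by
    rw [Subgroup.card_map_of_injective S.subtype_injective]
    exact P.card_eq_multiplicity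
  have hTp : IsPGroup s T := P.isPGroup'.map _
  have hsup : Subgroup.normalizer (T : Set Q) ⊔ S = ⊤ := Sylow.normalizer_sup_eq_top P
  have hrN : r ∣ Nat.card (Subgroup.normalizer (T : Set Q)) := by
    refine hri.trans ?_
    rw [← Subgroup.relIndex_top_right S, ← hsup, Subgroup.relIndex_sup_right]
    exact Subgroup.relIndex_dvd_card ..
  obtain ⟨n, hn⟩ := exists_prime_orderOf_dvd_card' r hrN
  have hnQ : orderOf (n : Q) = r := by rw [Subgroup.orderOf_coe, hn]
  let φ : Subgroup.zpowers n →* MulAut T :=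
    (Subgroup.normalizerMonoidHom T).comp (Subgroup.zpowers n).subtype
  letI : MulAction (Subgroup.zpowers n) T := MulAction.compHom T φ
  have hZ : IsPGroup r (Subgroup.zpowers n) :=
    IsPGroup.of_card (n := 1) (by rw [Nat.card_zpowers, hn, pow_one])
  have hfix : MulAction.fixedPoints (Subgroup.zpowers n) T = {1} := by
    ext v
    constructor
    · intro hv
      by_contra hv1
      have he : (n : Q) * v * (n : Q)⁻¹ = v := congrArg Subtype.val (hv ⟨n, Subgroup.mem_zpowers n⟩)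
      have hc : Commute (n : Q) v := mul_inv_eq_iff_eq_mul.1 he
      obtain ⟨k, hk⟩ := IsPGroup.iff_orderOf.1 hTp v
      rw [← Subgroup.orderOf_coe] at hk
      apply hno
      refine PrimeGraph.Three.hasOrder_of_dvd (g := (n : Q) * v) (Nat.mul_ne_zero hr.out.ne_zero hs.out.ne_zero) ?_
      rw [hc.orderOf_mul_eq_mul_orderOf_of_coprime
        (by rw [hnQ, hk]; exact Nat.Coprime.pow_right _ ((Nat.coprime_primes hr.out hs.out).2 hrs)), hnQ, hk]
      refine Nat.mul_dvd_mul_left r (dvd_pow_self s fun h0 => hv1 ?_)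
      rw [h0, pow_zero, orderOf_eq_one_iff] at hk
      exact Subtype.ext hk
    · rintro rfl g
      exact map_one (φ g)
  have hmod := hZ.card_modEq_card_fixedPoints T
  rw [hfix, hT] at hmod
  simp only [Nat.card_eq_fintype_card, Fintype.card_ofSubsingleton] at hmod
  exact (Nat.modEq_iff_dvd' (Nat.one_le_pow _ _ hs.out.pos)).1 hmod.symm

theorem dvd_card_or_index (S : Subgroup Q) {r : ℕ} (hr : r.Prime) (hrQ : r ∣ Nat.card Q) :
    r ∣ Nat.card S ∨ r ∣ S.index :=
  (Nat.Prime.dvd_mul hr).1 (S.card_mul_index.symm ▸ hrQ)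

/-- odd primes off `S` divide `|S|₂ - 1` -/
theorem dvd_two_part (h : CIT.IsCIT Q) (S : Subgroup Q) [S.Normal] {r : ℕ} (hr : r.Prime) (hr2 : r ≠ 2)
    (hrQ : r ∣ Nat.card Q) (hrS : ¬ r ∣ Nat.card S) : r ∣ 2 ^ (Nat.card S).factorization 2 - 1 := by
  haveI := Fact.mk hr
  haveI : Fact (Nat.Prime 2) := ⟨Nat.prime_two⟩
  exact dvd_pow_sub_one S hr2 ((dvd_card_or_index S hr hrQ).resolve_left hrS)
    (fun hh => not_hasOrder_two h hr hr2 (by rwa [mul_comm]))

theorem factorization_two_pow_mul {k M : ℕ} (hM : ¬ 2 ∣ M) : (2 ^ k * M).factorization 2 = k := by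
  have hM0 : M ≠ 0 := fun h => hM (h ▸ dvd_zero 2)
  rw [Nat.factorization_mul (pow_ne_zero _ two_ne_zero) hM0, Finsupp.add_apply,
    Nat.Prime.factorization_pow Nat.prime_two, Nat.factorization_eq_zero_of_not_dvd hM]
  simp

theorem factorization_two_two_pow_mul_odd {k A B : ℕ} (hA : ¬ 2 ∣ A) (hB : ¬ 2 ∣ B) :
    (A * 2 ^ k * B).factorization 2 = k := by
  rw [show A * 2 ^ k * B = 2 ^ k * (A * B) by ring]
  exact factorization_two_pow_mul fun h => (Nat.prime_two.dvd_mul.1 h).elim hA hB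

theorem orderOf_cases {F : Type*} [Field F] [Fintype F] {m : ℕ} (hm : 1 ≤ m)
    (hF : Fintype.card F = 2 ^ m) (y : Matrix.ProjectiveSpecialLinearGroup (Fin 2) F) :
    orderOf y ∣ 2 ∨ orderOf y ∣ 2 ^ m - 1 ∨ orderOf y ∣ 2 ^ m + 1 := by
  haveI : Fact (Nat.Prime 2) := ⟨Nat.prime_two⟩
  haveI : CharP F 2 := by
    have h2 : ringChar F = 2 := FiniteField.even_card_iff_char_two.2
      (Nat.mod_eq_zero_of_dvd (hF ▸ dvd_pow_self 2 (by omega)))
    exact h2 ▸ ringChar.charP F
  have h := RecogThree.PSL2Orders.orderOf_cases 2 y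
  have hd : RecogThree.PSL2Orders.dd (Fintype.card F) = 1 :=
    if_pos (hF ▸ dvd_pow_self 2 (by omega))
  rwa [hd, Nat.div_one, Nat.div_one, hF] at h

section Cases

variable {m : ℕ} (hm : 4 ≤ m) (h : GraphData Q m) (S : Subgroup Q) [S.Normal]

include hm h

/-- the prime of order `2m` -/
theorem exists_large : ∃ r : ℕ, r.Prime ∧ r ≠ 2 ∧ r ∣ 2 ^ m + 1 ∧ r ∣ Nat.card Q ∧
    orderOf (2 : ZMod r) = 2 * m ∧ 11 ≤ r := by
  obtain ⟨r, hr, hr2, hd, ho⟩ := Arith.exists_primitive (k := 2 * m) (by omega) (by omega)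
  have hlt := Arith.lt_of_orderOf hr ho (by omega)
  refine ⟨r, hr, hr2, ?_, h.mem r hr hd, ho, ?_⟩
  · rw [← Arith.sq_sub_one] at hd
    refine (hr.dvd_mul.1 hd).resolve_left fun hd' => ?_
    have := Nat.le_of_dvd (by omega) ((Arith.dvd_iff r m).1 hd')
    omega
  · rcases (by omega : r = 9 ∨ r = 10 ∨ 11 ≤ r) with rfl | rfl | h11
    · norm_num at hr
    · norm_num at hr
    · exact h11

theorem not_small (L : ℕ) (hS : ∀ r : ℕ, r.Prime → r ∣ Nat.card S → r ≤ 7)
    (h2 : (Nat.card S).factorization 2 = L) (hL : ∀ r : ℕ, r.Prime → r ∣ 2 ^ L - 1 → r ≤ 7) : False := by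
  obtain ⟨r, hr, hr2, -, hrQ, -, h11⟩ := exists_large hm h
  by_cases hrS : r ∣ Nat.card S
  · have := hS r hr hrS; omega
  · have := hL r hr (h2 ▸ dvd_two_part h.cit S hr hr2 hrQ hrS); omega

theorem eq_of_psl_even {n : ℕ} (hn : 1 ≤ n)
    (hS : Nat.card S = 2 ^ n * (2 ^ n - 1) * (2 ^ n + 1)) : n = m := by
  have hodd : ¬ 2 ∣ 2 ^ (2 * n) - 1 := Arith.odd_of_dvd (k := 2 * n) (by omega) (Or.inl dvd_rfl)
  rw [mul_assoc, Arith.sq_sub_one] at hS
  have hv : (Nat.card S).factorization 2 = n := by rw [hS, factorization_two_pow_mul hodd]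
  obtain ⟨r, hr, hr2, -, hrQ, ho, -⟩ := exists_large hm h
  have hle : 2 * m ≤ 2 * n ∧ 2 * m ∣ 2 * n := by
    have hd : 2 * m ∣ 2 * n := by
      rw [← ho]
      by_cases hrS : r ∣ Nat.card S
      · rw [hS] at hrS
        rcases hr.dvd_mul.1 hrS with h' | h'
        · exact absurd ((Nat.prime_dvd_prime_iff_eq hr Nat.prime_two).1 (hr.dvd_of_dvd_pow h')) hr2
        · exact (Arith.dvd_iff r _).1 h'
      · have := dvd_two_part h.cit S hr hr2 hrQ hrS
        rw [hv] at this
        exact ((Arith.dvd_iff r n).1 this).trans (dvd_mul_left n 2)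
    exact ⟨Nat.le_of_dvd (by omega) hd, hd⟩
  obtain ⟨r', hr', hr2', hd', ho'⟩ := Arith.exists_primitive (k := 2 * n) (by omega) (by omega)
  have hS' : r' ∣ Nat.card S := hS ▸ dvd_mul_of_dvd_right hd' _
  have h1 := (Arith.dvd_iff r' _).1 (h.dvd r' hr' hr2' (hS'.trans S.card_subgroup_dvd_card))
  rw [ho'] at h1
  have h2 := Nat.le_of_dvd (by omega) h1
  omega

theorem not_fermat {p k : ℕ} (hp : p.Prime) (hk : 1 ≤ k) (hpk : p = 2 ^ k + 1)
    (hS : 2 * Nat.card S = p * (p - 1) * (p + 1)) : False := by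
  haveI := Fact.mk hp
  have hA : ¬ 2 ∣ p := Arith.odd_of_dvd hk (Or.inr (hpk ▸ dvd_rfl))
  have hop := Arith.orderOf_fermat hk hpk
  rcases Nat.lt_or_ge k 2 with hk1 | hk2
  · obtain rfl : k = 1 := by omega
    have h12 : Nat.card S = 12 := by subst hpk; norm_num at hS; omega
    refine not_small hm h S 2 (fun r hr hd => ?_) (by rw [h12, show 12 = 2 ^ 2 * 3 from rfl,
      factorization_two_pow_mul (by norm_num)]) (fun r hr hd => ?_)
    · rw [h12, show 12 = 2 ^ 2 * 3 from rfl] at hd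
      rcases hr.dvd_mul.1 hd with h' | h'
      · have := Nat.le_of_dvd (by norm_num) (hr.dvd_of_dvd_pow h'); omega
      · have := Nat.le_of_dvd (by norm_num) h'; omega
    · have := Nat.le_of_dvd (by norm_num) hd; omega
  have hcard : Nat.card S = p * 2 ^ k * (2 ^ (k - 1) + 1) := by
    have e : 2 ^ k = 2 * 2 ^ (k - 1) := by rw [← pow_succ']; congr 1; omega
    have e1 : p - 1 = 2 ^ k := by omega
    have e2 : p + 1 = 2 * (2 ^ (k - 1) + 1) := by omega
    rw [e1, e2] at hS
    linarith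
  have hB : ¬ 2 ∣ 2 ^ (k - 1) + 1 := Arith.odd_of_dvd (k := k - 1) (by omega) (Or.inr dvd_rfl)
  have hv : (Nat.card S).factorization 2 = k := by
    rw [hcard, factorization_two_two_pow_mul_odd hA hB]
  have hpS : p ∣ Nat.card S := hcard ▸ dvd_mul_of_dvd_left (dvd_mul_right _ _) _
  have hp2 : p ≠ 2 := fun e => hA (e ▸ dvd_rfl)
  have h2k := (Arith.dvd_iff p _).1 (h.dvd p hp hp2 (hpS.trans S.card_subgroup_dvd_card))
  rw [hop] at h2k
  have hkm : 2 * k ≤ 2 * m := Nat.le_of_dvd (by omega) h2k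
  have hcases : ∀ s : ℕ, s.Prime → s ≠ 2 → s ∣ Nat.card S → s = p ∨ s ∣ 2 ^ (k - 1) + 1 := by
    intro s hs hs2 hd
    rw [hcard] at hd
    rcases hs.dvd_mul.1 hd with h' | h'
    · rcases hs.dvd_mul.1 h' with h'' | h''
      · exact Or.inl ((Nat.prime_dvd_prime_iff_eq hs hp).1 h'')
      · exact absurd ((Nat.prime_dvd_prime_iff_eq hs Nat.prime_two).1 (hs.dvd_of_dvd_pow h'')) hs2
    · exact Or.inr h'
  obtain ⟨r, hr, hr2, hrq, hrQ, ho, -⟩ := exists_large hm h
  have hkeq : k = m := by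
    by_cases hrS : r ∣ Nat.card S
    · rcases hcases r hr hr2 hrS with rfl | h'
      · omega
      · have hd : r ∣ 2 ^ (2 * (k - 1)) - 1 := Arith.sq_sub_one (k - 1) ▸ dvd_mul_of_dvd_right h' _
        have := Nat.le_of_dvd (by omega) (ho ▸ (Arith.dvd_iff r _).1 hd)
        omega
    · have hd := dvd_two_part h.cit S hr hr2 hrQ hrS
      rw [hv] at hd
      have := Nat.le_of_dvd (by omega) (ho ▸ (Arith.dvd_iff r _).1 hd)
      omega
  subst hkeq
  have hpow : ∀ s, s.Prime → s ∣ 2 ^ k - 1 → s = 3 := by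
    intro s hs hsd
    haveI := Fact.mk hs
    have hs2 : s ≠ 2 := fun e => Arith.odd_of_dvd hk (Or.inl hsd) (e ▸ dvd_rfl)
    have hsp : s ≠ p := fun e => hp.ne_one (Nat.eq_one_of_dvd_coprimes (Arith.coprime_sub_add hk)
      (e ▸ hsd) (hpk ▸ dvd_rfl))
    have hsQ := h.mem s hs (Arith.sq_sub_one k ▸ dvd_mul_of_dvd_left hsd _)
    have hsS : s ∣ Nat.card S := by
      by_contra hsS
      have hno : ¬ PrimeGraph.Three.HasOrder Q (s * p) := h.nonadj s p hs hp hsd (hpk ▸ dvd_rfl)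
      have hd := dvd_pow_sub_one S hsp ((dvd_card_or_index S hs hsQ).resolve_left hsS) hno
      have hvp : (Nat.card S).factorization p = 1 := by
        have hB0 : ¬ p ∣ 2 ^ k * (2 ^ (k - 1) + 1) := by
          intro hh
          rcases hp.dvd_mul.1 hh with h' | h'
          · exact hA ((Nat.prime_dvd_prime_iff_eq hp Nat.prime_two).1 (hp.dvd_of_dvd_pow h') ▸ dvd_rfl)
          · have := Nat.le_of_dvd (Nat.succ_pos _) h'
            have := Nat.pow_lt_pow_right (a := 2) (by norm_num) (show k - 1 < k by omega)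
            omega
        rw [hcard, mul_assoc, Nat.factorization_mul hp.ne_zero (by positivity), Finsupp.add_apply,
          Nat.factorization_eq_zero_of_not_dvd hB0, hp.factorization_self]
      rw [hvp, pow_one, show p - 1 = 2 ^ k by omega] at hd
      exact hs2 ((Nat.prime_dvd_prime_iff_eq hs Nat.prime_two).1 (hs.dvd_of_dvd_pow hd))
    rcases hcases s hs hs2 hsS with e | h'
    · exact absurd e hsp
    · have h2 : s ∣ 2 * (2 ^ (k - 1) + 1) := dvd_mul_of_dvd_right h' 2
      have e : 2 * (2 ^ (k - 1) + 1) = (2 ^ k - 1) + 3 := by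
        have : 2 ^ k = 2 * 2 ^ (k - 1) := by rw [← pow_succ']; congr 1; omega
        have := Nat.one_le_two_pow (n := k - 1)
        omega
      rw [e] at h2
      exact (Nat.prime_dvd_prime_iff_eq hs Nat.prime_three).1 ((Nat.dvd_add_right hsd).1 h2)
  have h1 : 2 ≤ 2 ^ k := Nat.le_self_pow (by omega) 2
  exact Arith.eq_three_pow (k := k) (by omega)
    (Nat.eq_prime_pow_of_unique_prime_dvd (n := 2 ^ k - 1) (by omega) (fun hd hdv => hpow _ hd hdv))

theorem not_mersenne {p k : ℕ} (hp : p.Prime) (hk : 2 ≤ k) (hpk : p + 1 = 2 ^ k)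
    (hS : 2 * Nat.card S = p * (p - 1) * (p + 1)) : False := by
  have e : 2 ^ k = 2 * 2 ^ (k - 1) := by rw [← pow_succ']; congr 1; omega
  have hcard : Nat.card S = p * 2 ^ k * (2 ^ (k - 1) - 1) := by
    have e2 : p - 1 = 2 * (2 ^ (k - 1) - 1) := by omega
    rw [hpk, e2] at hS
    linarith
  have hA : ¬ 2 ∣ p := Arith.odd_of_dvd (k := k) (by omega) (Or.inl (by omega : p = 2 ^ k - 1).dvd)
  have hB : ¬ 2 ∣ 2 ^ (k - 1) - 1 := Arith.odd_of_dvd (k := k - 1) (by omega) (Or.inl dvd_rfl)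
  have hv : (Nat.card S).factorization 2 = k := by
    rw [hcard, factorization_two_two_pow_mul_odd hA hB]
  have hop := Arith.orderOf_mersenne hk hpk
  have hpS : p ∣ Nat.card S := hcard ▸ dvd_mul_of_dvd_left (dvd_mul_right _ _) _
  have hk2m := (Arith.dvd_iff p _).1
    (h.dvd p hp (fun e => hA (e ▸ dvd_rfl)) (hpS.trans S.card_subgroup_dvd_card))
  rw [hop] at hk2m
  have hkm : k ≤ 2 * m := Nat.le_of_dvd (by omega) hk2m
  have hne : k ≠ 2 * m := by
    intro he
    have h3 : 3 ∣ p := by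
      have h4 : 3 ∣ 2 ^ k - 1 := by
        rw [Arith.dvd_iff, he, show orderOf (2 : ZMod 3) = 2 from orderOf_eq_prime (by decide) (by decide)]
        exact dvd_mul_right 2 m
      rwa [show 2 ^ k - 1 = p by omega] at h4
    rw [(Nat.prime_dvd_prime_iff_eq Nat.prime_three hp).1 h3 |>.symm, he] at hpk
    have := Nat.pow_le_pow_right (show 0 < 2 by norm_num) (show 3 ≤ 2 * m by omega)
    omega
  obtain ⟨r, hr, hr2, -, hrQ, ho, -⟩ := exists_large hm h
  by_cases hrS : r ∣ Nat.card S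
  · rw [hcard] at hrS
    rcases hr.dvd_mul.1 hrS with h' | h'
    · rcases hr.dvd_mul.1 h' with h'' | h''
      · obtain rfl := (Nat.prime_dvd_prime_iff_eq hr hp).1 h''
        omega
      · exact hr2 ((Nat.prime_dvd_prime_iff_eq hr Nat.prime_two).1 (hr.dvd_of_dvd_pow h''))
    · have := Nat.le_of_dvd (by omega) (ho ▸ (Arith.dvd_iff r _).1 h')
      omega
  · have hd := dvd_two_part h.cit S hr hr2 hrQ hrS
    rw [hv] at hd
    have := Nat.le_of_dvd (by omega) (ho ▸ (Arith.dvd_iff r _).1 hd)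
    omega

theorem not_suzuki {j : ℕ} (hj : 1 ≤ j)
    (hS : Nat.card S = (2 ^ (2 * j + 1)) ^ 2 * ((2 ^ (2 * j + 1)) ^ 2 + 1) * (2 ^ (2 * j + 1) - 1)) :
    False := by
  set N := 2 * j + 1 with hN
  rw [← pow_mul, mul_comm N 2] at hS
  have hA : ¬ 2 ∣ 2 ^ (2 * N) + 1 := Arith.odd_of_dvd (k := 2 * N) (by omega) (Or.inr dvd_rfl)
  have hB : ¬ 2 ∣ 2 ^ N - 1 := Arith.odd_of_dvd (k := N) (by omega) (Or.inl dvd_rfl)
  have hv : (Nat.card S).factorization 2 = 2 * N := by
    rw [hS, mul_comm (2 ^ (2 * N)), factorization_two_two_pow_mul_odd hA hB]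
  obtain ⟨r, hr, hr2, -, hrQ, ho, -⟩ := exists_large hm h
  have h1 : 2 * m ∣ 2 * (2 * N) := by
    rw [← ho]
    by_cases hrS : r ∣ Nat.card S
    · rw [hS] at hrS
      rcases hr.dvd_mul.1 hrS with h' | h'
      · rcases hr.dvd_mul.1 h' with h'' | h''
        · exact absurd ((Nat.prime_dvd_prime_iff_eq hr Nat.prime_two).1 (hr.dvd_of_dvd_pow h'')) hr2
        · exact (Arith.dvd_iff r _).1 (Arith.sq_sub_one (2 * N) ▸ dvd_mul_of_dvd_right h'' _)
      · exact ((Arith.dvd_iff r _).1 h').trans ⟨4, by ring⟩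
    · have hd := dvd_two_part h.cit S hr hr2 hrQ hrS
      rw [hv] at hd
      exact ((Arith.dvd_iff r _).1 hd).trans (dvd_mul_left _ 2)
  obtain ⟨r', hr', hr2', hd', ho'⟩ := Arith.exists_primitive (k := 2 * (2 * N)) (by omega) (by omega)
  have hrp : r' ∣ 2 ^ (2 * N) + 1 := by
    rw [← Arith.sq_sub_one] at hd'
    refine (hr'.dvd_mul.1 hd').resolve_left fun hd'' => ?_
    have := Nat.le_of_dvd (by omega) (ho' ▸ (Arith.dvd_iff r' _).1 hd'')
    omega
  have hr'S : r' ∣ Nat.card S := hS ▸ dvd_mul_of_dvd_left (dvd_mul_of_dvd_right hrp _) _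
  have h2 := (Arith.dvd_iff r' _).1 (h.dvd r' hr' hr2' (hr'S.trans S.card_subgroup_dvd_card))
  rw [ho'] at h2
  have hmN : m = 2 * N := by
    have := Nat.dvd_antisymm h1 h2
    omega
  subst hmN
  have ho3 : orderOf (2 : ZMod 3) = 2 := orderOf_eq_prime (by decide) (by decide)
  haveI : Fact (Nat.Prime 3) := ⟨Nat.prime_three⟩
  have h3m : 3 ∣ 2 ^ (2 * N) - 1 := (Arith.dvd_iff 3 _).2 (ho3.symm ▸ dvd_mul_right 2 N)
  have h3q : ¬ 3 ∣ 2 ^ N - 1 := fun h' => by
    have := (Arith.dvd_iff 3 _).1 h'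
    rw [ho3] at this
    omega
  have h3p : ¬ 3 ∣ 2 ^ (2 * N) + 1 := fun h' => by
    have := Nat.dvd_sub h' h3m
    have := Nat.one_le_two_pow (n := 2 * N)
    omega
  have h3S : ¬ 3 ∣ Nat.card S := by
    rw [hS]
    intro h'
    rcases Nat.prime_three.dvd_mul.1 h' with h'' | h''
    · rcases Nat.prime_three.dvd_mul.1 h'' with h3 | h3
      · exact absurd ((Nat.prime_dvd_prime_iff_eq Nat.prime_three Nat.prime_two).1
          (Nat.prime_three.dvd_of_dvd_pow h3)) (by norm_num)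
      · exact h3p h3
    · exact h3q h''
  have h3i : 3 ∣ S.index :=
    (dvd_card_or_index S Nat.prime_three
      (h.mem 3 Nat.prime_three (Arith.sq_sub_one _ ▸ dvd_mul_of_dvd_left h3m _))).resolve_left h3S
  have hmod : (2 ^ (2 * N) + 1) % 3 = 1 := by
    refine Arith.mod_three (by omega) fun s hs => ?_
    obtain ⟨hsp, hsd, -⟩ := Nat.mem_primeFactors.1 hs
    haveI := Fact.mk hsp
    have hs3 : 3 ≠ s := fun e => h3p (e ▸ hsd)
    have hd := dvd_pow_sub_one S hs3 h3i (h.nonadj 3 s Nat.prime_three hsp h3m hsd)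
    have hsv : (Nat.card S).factorization s = (2 ^ (2 * N) + 1).factorization s := by
      have hn1 : ¬ s ∣ 2 ^ (2 * N) := fun h' =>
        hA ((Nat.prime_dvd_prime_iff_eq hsp Nat.prime_two).1 (hsp.dvd_of_dvd_pow h') ▸ hsd)
      have hn2 : ¬ s ∣ 2 ^ N - 1 := fun h' => by
        have h4 : s ∣ 2 ^ (2 * N) - 1 := Arith.sq_sub_one N ▸ dvd_mul_of_dvd_left h' _
        exact hsp.ne_one (Nat.eq_one_of_dvd_coprimes (Arith.coprime_sub_add (k := 2 * N) (by omega)) h4 hsd)
      have hN0 : 2 ^ N - 1 ≠ 0 := fun h' => hn2 (h' ▸ dvd_zero s)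
      rw [hS, Nat.factorization_mul (by positivity) hN0, Nat.factorization_mul (by positivity) (by omega),
        Finsupp.add_apply, Finsupp.add_apply, Nat.factorization_eq_zero_of_not_dvd hn1,
        Nat.factorization_eq_zero_of_not_dvd hn2, zero_add, add_zero]
    rw [hsv] at hd
    have h4 := Nat.one_le_pow ((2 ^ (2 * N) + 1).factorization s) s hsp.pos
    omega
  have := Nat.one_le_two_pow (n := 2 * N)
  omega

end Cases

theorem card_psl3_four {F : Type*} [Field F] [Fintype F] (hF : Fintype.card F = 4) :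
    Nat.card (Matrix.ProjectiveSpecialLinearGroup (Fin 3) F) = 20160 := by
  have h := Linear.sub_one_mul_card_SL (F := F) 3 (by norm_num)
  rw [hF, Fin.prod_univ_three] at h
  have h2 := Linear.card_SL_eq_gcd_mul_card_PSL (ι := Fin 3) (F := F)
  rw [Fintype.card_fin, Nat.card_eq_fintype_card (α := F), hF] at h2
  rw [show Nat.gcd 3 (4 - 1) = 3 from rfl] at h2
  norm_num at h
  omega

/-- The structure theorem, given the list of simple groups with 2-groups as involution centralizers. -/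
theorem quotient_equiv (hC : Spectrum.EPPOSeven.CITClass.{u}) {F : Type*} [Field F] [Fintype F] (m : ℕ)
    (hm : 4 ≤ m) (hF : Fintype.card F = 2 ^ m) {G : Type u} [Group G] [Finite G]
    (hd : ∀ r : ℕ, r.Prime → (r ∣ Nat.card (Matrix.ProjectiveSpecialLinearGroup (Fin 2) F) ↔ r ∣ Nat.card G))
    (ha : ∀ r s : ℕ, r.Prime → s.Prime → r ≠ s →
      ((∃ x : Matrix.ProjectiveSpecialLinearGroup (Fin 2) F, orderOf x = r * s) ↔ (∃ y : G, orderOf y = r * s))) :
    Nonempty (G ⧸ Cfsg.pCore 2 G ≃* Matrix.ProjectiveSpecialLinearGroup (Fin 2) F) := by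
  haveI : Fact (Nat.Prime 2) := ⟨Nat.prime_two⟩
  have hev : Even (Fintype.card F) := hF ▸ Nat.even_pow.2 ⟨even_two, by omega⟩
  have hcardL := Linear.card_PSL_two_of_even (F := F) hev
  rw [hF, mul_assoc, Arith.sq_sub_one] at hcardL
  have h1m := Nat.one_le_two_pow (n := m)
  have hpiG : ∀ r : ℕ, r.Prime → r ≠ 2 → (r ∣ Nat.card G ↔ r ∣ 2 ^ (2 * m) - 1) := by
    intro r hr hr2
    rw [← hd r hr, hcardL]
    refine ⟨fun h => (hr.dvd_mul.1 h).resolve_left fun h' => ?_, fun h => dvd_mul_of_dvd_right h _⟩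
    exact hr2 ((Nat.prime_dvd_prime_iff_eq hr Nat.prime_two).1 (hr.dvd_of_dvd_pow h'))
  -- no adjacency between the three classes of primes
  have hL : ∀ {r s : ℕ}, r.Prime → s.Prime → r ≠ s →
      (r * s ∣ 2 ∨ r * s ∣ 2 ^ m - 1 ∨ r * s ∣ 2 ^ m + 1 → False) → ¬ PrimeGraph.Three.HasOrder G (r * s) := by
    intro r s hr hs hrs hfalse hG
    obtain ⟨x, hx⟩ := (ha r s hr hs hrs).2 hG
    exact hfalse (hx ▸ orderOf_cases (by omega) hF x)
  have hne2 : ∀ {r : ℕ}, (r ∣ 2 ^ m - 1 ∨ r ∣ 2 ^ m + 1) → r ≠ 2 := fun h e =>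
    Arith.odd_of_dvd (k := m) (by omega) h (e ▸ dvd_rfl)
  have hnonadj : ∀ r s : ℕ, r.Prime → s.Prime → r ∣ 2 ^ m - 1 → s ∣ 2 ^ m + 1 →
      ¬ PrimeGraph.Three.HasOrder G (r * s) := by
    intro r s hr hs hrd hsd
    have hcop := Arith.coprime_sub_add (k := m) (by omega)
    refine hL hr hs (fun e => hr.ne_one (Nat.eq_one_of_dvd_coprimes hcop hrd (e ▸ hsd))) ?_
    rintro (h | h | h)
    · exact hne2 (Or.inl hrd) ((Nat.prime_dvd_prime_iff_eq hr Nat.prime_two).1
        ((dvd_mul_right r s).trans h))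
    · exact hs.ne_one (Nat.eq_one_of_dvd_coprimes hcop ((dvd_mul_left s r).trans h) hsd)
    · exact hr.ne_one (Nat.eq_one_of_dvd_coprimes hcop hrd ((dvd_mul_right r s).trans h))
  have htwo : ∀ r : ℕ, r.Prime → r ≠ 2 → ¬ PrimeGraph.Three.HasOrder G (2 * r) := by
    intro r hr hr2
    refine hL Nat.prime_two hr (Ne.symm hr2) ?_
    rintro (h | h | h)
    · exact hr2 ((Nat.prime_dvd_prime_iff_eq hr Nat.prime_two).1 ((dvd_mul_left r 2).trans h))
    · exact Arith.odd_of_dvd (k := m) (by omega) (Or.inl dvd_rfl) ((dvd_mul_right 2 r).trans h)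
    · exact Arith.odd_of_dvd (k := m) (by omega) (Or.inr dvd_rfl) ((dvd_mul_right 2 r).trans h)
  have hcit : CIT.IsCIT G := CITReduce.isCIT_of_forall htwo
  have h2G : 2 ∣ Nat.card G :=
    (hd 2 Nat.prime_two).1 (hcardL ▸ dvd_mul_of_dvd_left (dvd_pow_self 2 (by omega)) _)
  obtain ⟨r1, hr1, hr1d⟩ := Nat.exists_prime_and_dvd (show 2 ^ m - 1 ≠ 1 by
    have := Nat.pow_le_pow_right (show 0 < 2 by norm_num) hm; omega)
  obtain ⟨r2, hr2, hr2d⟩ := Nat.exists_prime_and_dvd (show 2 ^ m + 1 ≠ 1 by omega)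
  have hr12 : r1 ≠ r2 := fun e => hr1.ne_one
    (Nat.eq_one_of_dvd_coprimes (Arith.coprime_sub_add (k := m) (by omega)) hr1d (e ▸ hr2d))
  have hns : ¬ Group.IsSolvable G := PrimeGraph.Three.not_isSolvable_of_three Nat.prime_two hr1 hr2
    (hne2 (Or.inl hr1d)).symm (hne2 (Or.inr hr2d)).symm hr12 h2G
    ((hpiG r1 hr1 (hne2 (Or.inl hr1d))).2 (Arith.sq_sub_one m ▸ dvd_mul_of_dvd_left hr1d _))
    ((hpiG r2 hr2 (hne2 (Or.inr hr2d))).2 (Arith.sq_sub_one m ▸ dvd_mul_of_dvd_right hr2d _))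
    (htwo r1 hr1 (hne2 (Or.inl hr1d))) (htwo r2 hr2 (hne2 (Or.inr hr2d)))
    (hnonadj r1 r2 hr1 hr2 hr1d hr2d)
  -- pass to the quotient
  have hOdd : ∀ r : ℕ, r.Prime → r ≠ 2 → (r ∣ Nat.card (G ⧸ Cfsg.pCore 2 G) ↔ r ∣ Nat.card G) := by
    intro r hr hr2'
    rw [Subgroup.card_eq_card_quotient_mul_card_subgroup (Cfsg.pCore 2 G)]
    refine ⟨fun h => dvd_mul_of_dvd_left h _, fun h => (hr.dvd_mul.1 h).resolve_right fun h' => ?_⟩
    obtain ⟨j, hj⟩ := IsPGroup.iff_card.1 (Cores.pCore_isPGroup (G := G) 2)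
    rw [hj] at h'
    exact hr2' ((Nat.prime_dvd_prime_iff_eq hr Nat.prime_two).1 (hr.dvd_of_dvd_pow h'))
  have hQ : GraphData (G ⧸ Cfsg.pCore 2 G) m :=
    { cit := CITReduce.isCIT_quotient hcit _
      dvd := fun r hr hr2' h => (hpiG r hr hr2').1 ((hOdd r hr hr2').1 h)
      mem := fun r hr h => by
        have hr2' : r ≠ 2 := fun e => Arith.odd_of_dvd (k := 2 * m) (by omega) (Or.inl h) (e ▸ dvd_rfl)
        exact (hOdd r hr hr2').2 ((hpiG r hr hr2').2 h)
      nonadj := by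
        rintro r s hr hs hrd hsd ⟨y, hy⟩
        obtain ⟨g, rfl⟩ := QuotientGroup.mk'_surjective (Cfsg.pCore 2 G) y
        exact hnonadj r s hr hs hrd hsd (PrimeGraph.Three.hasOrder_of_dvd
          (Nat.mul_ne_zero hr.ne_zero hs.ne_zero) (hy ▸ orderOf_map_dvd _ g)) }
  obtain ⟨S, hSn, hSs, hSna, -⟩ := CITReduce.exists_socle hQ.cit
    (CITReduce.not_isSolvable_quotient_pCore hns) (Cores.pCore_quotient_pCore (G := G) 2)
  haveI := hSn
  haveI := hSs
  have hna : ∃ a b : S, a * b ≠ b * a := by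
    by_contra hall
    push Not at hall
    exact hSna ⟨⟨hall⟩⟩
  rcases hC S hna (CITReduce.isCIT_subgroup hQ.cit S) with
    ⟨K, iK, iKf, hK, ⟨e⟩⟩ | ⟨K, iK, iKf, hK, ⟨e⟩⟩ | ⟨-, j, hj, hcard⟩
  · letI := iK
    letI := iKf
    rcases hK with h9 | ⟨n, hn⟩ | ⟨hp, k, hk⟩
    · exfalso
      have h360 : Nat.card S = 360 := by
        have h2 := Linear.two_mul_card_PSL_two_of_odd (F := K) (by rw [h9]; decide)
        rw [h9] at h2
        rw [Nat.card_congr e.toEquiv]
        omega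
      refine not_small hm hQ S 3 (fun r hr hd' => ?_) (by rw [h360, show 360 = 2 ^ 3 * 45 from rfl,
        factorization_two_pow_mul (by norm_num)]) (fun r hr hd' => ?_)
      · rw [h360, show 360 = 8 * 9 * 5 from rfl] at hd'
        rcases hr.dvd_mul.1 hd' with h' | h'
        · rcases hr.dvd_mul.1 h' with h'' | h''
          · exact (Nat.le_of_dvd (by norm_num) (hr.dvd_of_dvd_pow (m := 2) (n := 3) h'')).trans (by norm_num)
          · exact (Nat.le_of_dvd (by norm_num) (hr.dvd_of_dvd_pow (m := 3) (n := 2) h'')).trans (by norm_num)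
        · exact (Nat.le_of_dvd (by norm_num) h').trans (by norm_num)
      · exact (Nat.le_of_dvd (by norm_num) hd')
    · have hn1 : 1 ≤ n := by
        rcases Nat.eq_zero_or_pos n with h0 | h0
        · have := Fintype.one_lt_card (α := K); rw [hn, h0] at this; simp at this
        · exact h0
      have hcardS : Nat.card S = 2 ^ n * (2 ^ n - 1) * (2 ^ n + 1) := by
        rw [Nat.card_congr e.toEquiv, Linear.card_PSL_two_of_even (hn ▸ Nat.even_pow.2 ⟨even_two, by omega⟩), hn]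
      obtain rfl := eq_of_psl_even hm hQ S hn1 hcardS
      haveI : CharP K 2 := by
        have h2 : ringChar K = 2 := FiniteField.even_card_iff_char_two.2
          (Nat.mod_eq_zero_of_dvd (hn ▸ dvd_pow_self 2 (by omega)))
        exact h2 ▸ ringChar.charP K
      let ι : Matrix.SpecialLinearGroup (Fin 2) K →* G ⧸ Cfsg.pCore 2 G :=
        S.subtype.comp ((PrimeGraph.SL2.slEquivPSL (F := K)).trans e.symm).toMonoidHom
      have hι : Function.Injective ι := S.subtype_injective.comp (MulEquiv.injective _)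
      have hr : ι.range = S := by
        rw [MonoidHom.range_comp, MonoidHom.range_eq_top.2 (MulEquiv.surjective _),
          ← MonoidHom.range_eq_map, Subgroup.range_subtype]
      have htop := L2Even.eq_top ι hι (hr ▸ hSn) (L2Even.card_ge_three (by omega) hn) hQ.cit
      rw [hr] at htop
      obtain ⟨e'⟩ := Linear.nonempty_pslCongr (ι := Fin 2)
        (FiniteField.ringEquivOfCardEq (K := K) (K' := F) (hn.trans hF.symm))
      exact ⟨((Subgroup.topEquiv.symm.trans (MulEquiv.subgroupCongr htop.symm)).trans e).trans e'⟩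
    · exfalso
      have hodd : Odd (Fintype.card K) ∨ Fintype.card K = 2 := by
        rcases hp.eq_two_or_odd' with h' | h'
        · exact Or.inr h'
        · exact Or.inl h'
      rcases hodd with hodd | h2'
      · have h2 := Linear.two_mul_card_PSL_two_of_odd (F := K) hodd
        rw [← Nat.card_congr e.toEquiv] at h2
        have hk1 : 1 ≤ k := by
          rcases Nat.eq_zero_or_pos k with h0 | h0
          · rcases hk with hk | hk <;> rw [h0] at hk <;> obtain ⟨c, hc⟩ := hodd <;>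
              have := Fintype.one_lt_card (α := K) <;> omega
          · exact h0
        rcases hk with hk | hk
        · exact not_fermat hm hQ S hp hk1 hk h2
        · refine not_mersenne hm hQ S hp ?_ hk h2
          rcases Nat.lt_or_ge k 2 with hk2 | hk2
          · obtain rfl : k = 1 := by omega
            have := hp.two_le
            omega
          · exact hk2
      · have hn1 : Nat.card S = 2 ^ 1 * (2 ^ 1 - 1) * (2 ^ 1 + 1) := by
          rw [Nat.card_congr e.toEquiv, Linear.card_PSL_two_of_even (by rw [h2']; decide), h2']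
          rfl
        have := eq_of_psl_even hm hQ S le_rfl hn1
        omega
  · exfalso
    letI := iK
    letI := iKf
    have h20160 : Nat.card S = 20160 := by rw [Nat.card_congr e.toEquiv, card_psl3_four hK]
    refine not_small hm hQ S 6 (fun r hr hd' => ?_) (by rw [h20160, show 20160 = 2 ^ 6 * 315 from rfl,
      factorization_two_pow_mul (by norm_num)]) (fun r hr hd' => ?_)
    · rw [h20160, show 20160 = 64 * 9 * 5 * 7 from rfl] at hd'
      rcases hr.dvd_mul.1 hd' with h' | h'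
      · rcases hr.dvd_mul.1 h' with h'' | h''
        · rcases hr.dvd_mul.1 h'' with h3 | h3
          · exact (Nat.le_of_dvd (by norm_num) (hr.dvd_of_dvd_pow (m := 2) (n := 6) h3)).trans (by norm_num)
          · exact (Nat.le_of_dvd (by norm_num) (hr.dvd_of_dvd_pow (m := 3) (n := 2) h3)).trans (by norm_num)
        · exact (Nat.le_of_dvd (by norm_num) h'').trans (by norm_num)
      · exact Nat.le_of_dvd (by norm_num) h'
    · have hd'' : r ∣ 9 * 7 := by simpa using hd'
      rcases hr.dvd_mul.1 hd'' with h' | h'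
      · exact (Nat.le_of_dvd (by norm_num) (hr.dvd_of_dvd_pow (m := 3) (n := 2) h')).trans (by norm_num)
      · exact Nat.le_of_dvd (by norm_num) h'
  · exact (not_suzuki hm hQ S hj hcard).elim

end Cfsg.Agent.Lib.GraphIsolated64
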